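import Mathlib
import Cfsg.Prelude.Def_Spor_Ru
import Cfsg.Agent.Lib.RuMin.Data

/-!
# Finite checks for the minimum of the Conway-Wales lattice
-/

set_option autoImplicit false
set_option maxRecDepth 100000

namespace Cfsg.Agent.Lib.RuMin

open Cfsg.Spor

/-- Divisibility of a Gaussian integer by 4. -/
def D4 (a : GaussianInt) : Prop := (4 : ℤ) ∣ a.re ∧ (4 : ℤ) ∣ a.im

instance : DecidablePred D4 := fun a => by unfold D4; infer_instance

/-- The Hermitian product. -/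
def herm (x y : RuVec) : GaussianInt := ∑ p, x p * star (y p)

/-- Reduction modulo `1 + i`. -/
def ρ (a : GaussianInt) : ZMod 2 := ((a.re + a.im : ℤ) : ZMod 2)

/-- `1 + i`. -/
def onei : GaussianInt := ⟨1, 1⟩

/-- The weight of a word. -/
def wt (w : W) : ℕ := (Finset.univ.filter fun p => w p ≠ 0).card

/-- `(1 + i)³`. -/
def c3 : GaussianInt := ⟨-2, 2⟩

/-- `(1 + i)²`. -/
def c2 : GaussianInt := ⟨0, 2⟩

theorem chk_gram : ∀ j k, D4 (herm (bT j) (bT k)) := by decide +kernel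

theorem chk_norm : ∀ j, (8 : ℤ) ∣ ruNorm (bT j) := by decide +kernel

theorem chk_rj : ∀ j p, D4 (ruRj (bT j) p - ∑ k, cRj j k * bT k p) := by decide +kernel
theorem chk_rk : ∀ j p, D4 (ruRk (bT j) p - ∑ k, cRk j k * bT k p) := by decide +kernel
theorem chk_sign : ∀ j p, D4 (ruSign (bT j) p - ∑ k, cSign j k * bT k p) := by decide +kernel
theorem chk_shift : ∀ j p, D4 (ruShift (bT j) p - ∑ k, cShift j k * bT k p) := by decide +kernel

theorem chk_len : ruTable.length = 20 := by decide +kernel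

theorem chk_tab : ∀ (r : Fin 20) p, D4 (ruTable.get (Fin.cast chk_len.symm r) p - ∑ k, cTab r k * bT k p) := by decide +kernel

theorem chk_u0 : ∀ q j, D4 (herm (bT j) (c3 • uu0 q)) := by decide +kernel
theorem chk_u1 : ∀ q j, D4 (herm (bT j) (c2 • uu1 q)) := by decide +kernel
theorem chk_u2 : ∀ r j, D4 (herm (bT j) (onei • u2 r)) := by decide +kernel
theorem chk_u3 : ∀ r j, D4 (herm (bT j) (u3 r)) := by decide +kernel

theorem chk_dec0 : ∀ q p, ρ (uu0 (pIdx q) p) =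
    (if p = q then 1 else 0) + ∑ k, g0 k q * (if p = I0 k then 1 else 0) := by decide +kernel
theorem chk_dec1 : ∀ q p, ρ (uu1 (pIdx q) p) =
    (if p = q then 1 else 0) + ∑ k, g1 k q * (if p = I1 k then 1 else 0) := by decide +kernel

theorem chk_col2a : ∀ p, ∃ r, ρ (u2 r p) ≠ 0 := by decide +kernel
theorem chk_col2b : ∀ p q, p ≠ q → ∃ r, ρ (u2 r p) ≠ ρ (u2 r q) := by decide +kernel
theorem chk_col3 : ∀ p, ∃ r, ρ (u3 r p) ≠ 0 := by decide +kernel

theorem chk_T : ∀ i j, D4 (herm (bT j) (Tp i)) := by decide +kernel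
theorem chk_T2 : ∀ i p, p ≠ P0 i → pw i p ≠ 0 → Tp i p = 0 := by decide +kernel
theorem chk_T3 : ∀ i, (Tp i (P0 i)).norm = 8 ∧ pw i (P0 i) ≠ 0 ∧ wt (pw i) = 8 := by decide +kernel
theorem chk_W : ∀ i j, D4 (herm (bT j) (wn i)) := by decide +kernel
theorem chk_W2 : ∀ i p, p ≠ (i, 0) → cw i p ≠ 0 → wn i p = 0 := by decide +kernel
theorem chk_W3 : ∀ i, (wn i (i, 0)).norm = 2 ∧ cw i (i, 0) ≠ 0 ∧ wt (cw i) = 4 := by decide +kernel

theorem chk_F0 : ∀ a : Fin 9 → ZMod 2, (∑ k, a k • g0 k) = 0 ∨ (∃ i, (∑ k, a k • g0 k) = pw i) ∨ 9 ≤ wt (∑ k, a k • g0 k) := by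
  decide +kernel

theorem chk_F1 : ∀ a : Fin 10 → ZMod 2, (∑ k, a k • g1 k) = 0 ∨ (∃ i, (∑ k, a k • g1 k) = cw i) ∨ 5 ≤ wt (∑ k, a k • g1 k) := by
  decide +kernel

end Cfsg.Agent.Lib.RuMin
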