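import Mathlib
import Cfsg.Prelude.Def_Spor_Ru
import Cfsg.Agent.Lib.RuMin.Checks

/-!
# The minimum of the Conway-Wales lattice

The lattice sits in the explicit `ℤ[i]`-module `Lp` (spanned by an echelon basis modulo 4), which is self-orthogonal at
scale 4. A vector of stored norm 8 is excluded layer by layer in the `(1 + i)`-adic filtration: the parity checks given
by orthogonality confine the reduction modulo `1 + i` to a small code, whose few words of small weight are killed by
explicit test vectors.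
-/

set_option autoImplicit false
set_option maxRecDepth 100000

namespace Cfsg.Agent.Lib.RuMin

open Cfsg.Spor

/-! ### Gaussian integers -/

theorem D4.add {a b : GaussianInt} (ha : D4 a) (hb : D4 b) : D4 (a + b) :=
  ⟨by simpa using dvd_add ha.1 hb.1, by simpa using dvd_add ha.2 hb.2⟩

theorem D4.zero : D4 0 := ⟨by simp, by simp⟩

theorem D4.mul_left (c : GaussianInt) {a : GaussianInt} (ha : D4 a) : D4 (c * a) := by
  obtain ⟨⟨r, hr⟩, ⟨s, hs⟩⟩ := ha
  constructor
  · rw [Zsqrtd.re_mul, hr, hs]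
    exact ⟨c.re * r + (-1) * c.im * s, by ring⟩
  · rw [Zsqrtd.im_mul, hr, hs]
    exact ⟨c.re * s + c.im * r, by ring⟩

theorem D4.sum {ι : Type*} (s : Finset ι) (f : ι → GaussianInt) (h : ∀ i ∈ s, D4 (f i)) : D4 (∑ i ∈ s, f i) := by
  classical
  induction s using Finset.induction_on with
  | empty => simpa using D4.zero
  | insert a s ha ih =>
    rw [Finset.sum_insert ha]
    exact (h a (Finset.mem_insert_self _ _)).add (ih fun i hi => h i (Finset.mem_insert_of_mem hi))

theorem two_zmod : (2 : ZMod 2) = 0 := rfl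

theorem ρ_add (a b : GaussianInt) : ρ (a + b) = ρ a + ρ b := by
  unfold ρ
  rw [Zsqrtd.re_add, Zsqrtd.im_add]
  push_cast
  ring

theorem ρ_mul (a b : GaussianInt) : ρ (a * b) = ρ a * ρ b := by
  unfold ρ
  have h : (a * b).re + (a * b).im = (a.re + a.im) * (b.re + b.im) - 2 * (a.im * b.im) := by
    rw [Zsqrtd.re_mul, Zsqrtd.im_mul]
    ring
  rw [h]
  push_cast
  rw [two_zmod]
  ring

theorem ρ_star (a : GaussianInt) : ρ (star a) = ρ a := by
  unfold ρ
  rw [Zsqrtd.re_star, Zsqrtd.im_star]
  push_cast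
  exact congrArg (fun t => (a.re : ZMod 2) + t) (CharTwo.neg_eq (a.im : ZMod 2))

theorem ρ_zero : ρ 0 = 0 := by
  unfold ρ
  simp

theorem ρ_sum {ι : Type*} (s : Finset ι) (f : ι → GaussianInt) : ρ (∑ i ∈ s, f i) = ∑ i ∈ s, ρ (f i) := by
  classical
  induction s using Finset.induction_on with
  | empty => simpa using ρ_zero
  | insert a s ha ih => rw [Finset.sum_insert ha, Finset.sum_insert ha, ρ_add, ih]

theorem exists_div {a : GaussianInt} (h : ρ a = 0) : ∃ b, a = onei * b := by
  have h2 : ((2 : ℕ) : ℤ) ∣ a.re + a.im := (ZMod.intCast_zmod_eq_zero_iff_dvd _ 2).1 h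
  obtain ⟨k, hk⟩ := h2
  refine ⟨⟨k, k - a.re⟩, ?_⟩
  apply Zsqrtd.ext
  · rw [Zsqrtd.re_mul]
    simp only [onei]
    ring
  · rw [Zsqrtd.im_mul]
    simp only [onei]
    push_cast at hk
    linarith

theorem norm_onei_mul (b : GaussianInt) : (onei * b).norm = 2 * b.norm := by
  rw [Zsqrtd.norm_mul]
  rfl

theorem norm_nn (a : GaussianInt) : 0 ≤ a.norm := Zsqrtd.norm_nonneg (by norm_num) a

theorem one_le_norm {a : GaussianInt} (h : a ≠ 0) : 1 ≤ a.norm := by
  have h1 := norm_nn a
  have h2 : a.norm ≠ 0 := fun h0 => h ((Zsqrtd.norm_eq_zero (d := -1) (by intro x; nlinarith [mul_self_nonneg x]) a).1 h0)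
  omega

theorem not_D4 {a : GaussianInt} (h : D4 a) (h0 : a ≠ 0) : 16 ≤ a.norm := by
  obtain ⟨⟨r, hr⟩, ⟨s, hs⟩⟩ := h
  have h1 : a.norm = 16 * (r * r + s * s) := by
    rw [Zsqrtd.norm_def, hr, hs]
    ring
  have h2 : r * r + s * s ≠ 0 := by
    intro h3
    apply h0
    have hr0 : r = 0 := by nlinarith [mul_self_nonneg r, mul_self_nonneg s]
    have hs0 : s = 0 := by nlinarith [mul_self_nonneg r, mul_self_nonneg s]
    apply Zsqrtd.ext
    · simp [hr, hr0]
    · simp [hs, hs0]
  have h3 : 0 ≤ r * r + s * s := add_nonneg (mul_self_nonneg _) (mul_self_nonneg _)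
  rw [h1]
  omega

/-! ### Vectors -/

theorem herm_add_left (x y w : RuVec) : herm (x + y) w = herm x w + herm y w := by
  unfold herm
  rw [← Finset.sum_add_distrib]
  exact Finset.sum_congr rfl fun p _ => by rw [Pi.add_apply, add_mul]

theorem herm_smul_left (c : GaussianInt) (x w : RuVec) : herm (c • x) w = c * herm x w := by
  unfold herm
  rw [Finset.mul_sum]
  exact Finset.sum_congr rfl fun p _ => by rw [Pi.smul_apply, smul_eq_mul, mul_assoc]

theorem herm_smul_right (c : GaussianInt) (x w : RuVec) : herm x (c • w) = star c * herm x w := by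
  unfold herm
  rw [Finset.mul_sum]
  refine Finset.sum_congr rfl fun p _ => ?_
  rw [Pi.smul_apply, smul_eq_mul, star_mul']
  ring

theorem re_sum {ι : Type*} (s : Finset ι) (f : ι → GaussianInt) : (∑ i ∈ s, f i).re = ∑ i ∈ s, (f i).re := by
  classical
  induction s using Finset.induction_on with
  | empty => simp
  | insert a s ha ih => rw [Finset.sum_insert ha, Finset.sum_insert ha, Zsqrtd.re_add, ih]

theorem norm_add' (a b : GaussianInt) : (a + b).norm = a.norm + b.norm + 2 * (a * star b).re := by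
  simp only [Zsqrtd.norm_def, Zsqrtd.re_add, Zsqrtd.im_add, Zsqrtd.re_mul, Zsqrtd.re_star, Zsqrtd.im_star]
  ring

theorem ruNorm_add (x y : RuVec) : ruNorm (x + y) = ruNorm x + ruNorm y + 2 * (herm x y).re := by
  unfold ruNorm herm
  rw [re_sum, Finset.mul_sum, ← Finset.sum_add_distrib, ← Finset.sum_add_distrib]
  exact Finset.sum_congr rfl fun p _ => by rw [Pi.add_apply, norm_add']

theorem ruNorm_smul (c : GaussianInt) (x : RuVec) : ruNorm (c • x) = c.norm * ruNorm x := by
  unfold ruNorm
  rw [Finset.mul_sum]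
  exact Finset.sum_congr rfl fun p _ => by rw [Pi.smul_apply, smul_eq_mul, Zsqrtd.norm_mul]

/-- Coordinate vectors times 4. -/
def e4 (p : RuIdx) : RuVec := Pi.single p 4

/-- The module containing the lattice. -/
def Lp : Submodule GaussianInt RuVec := Submodule.span GaussianInt (Set.range bT ∪ Set.range e4)

theorem bT_mem (j : Fin 28) : bT j ∈ Lp := Submodule.subset_span (Or.inl ⟨j, rfl⟩)

theorem e4_mem (p : RuIdx) : e4 p ∈ Lp := Submodule.subset_span (Or.inr ⟨p, rfl⟩)

/-- A vector with all entries divisible by 4 lies in the module. -/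
theorem mem_of_D4 {v : RuVec} (h : ∀ p, D4 (v p)) : v ∈ Lp := by
  choose f hf using fun p => (h p).1
  choose g hg using fun p => (h p).2
  have : v = ∑ p, (⟨f p, g p⟩ : GaussianInt) • e4 p := by
    funext q
    rw [Finset.sum_apply, Finset.sum_eq_single q]
    · simp only [e4, Pi.smul_apply, Pi.single_eq_same, smul_eq_mul]
      apply Zsqrtd.ext
      · rw [hf q, Zsqrtd.re_mul]
        simp
        ring
      · rw [hg q, Zsqrtd.im_mul]
        simp
        ring
    · intro b _ hb
      simp [e4, Pi.single_apply, hb.symm]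
    · simp
  rw [this]
  exact Submodule.sum_mem _ fun p _ => Submodule.smul_mem _ _ (e4_mem p)

/-- A combination of the basis modulo 4 lies in the module. -/
theorem mem_of_cert {v : RuVec} (c : Fin 28 → GaussianInt) (h : ∀ p, D4 (v p - ∑ k, c k * bT k p)) : v ∈ Lp := by
  have h1 : v - ∑ k, c k • bT k ∈ Lp := by
    apply mem_of_D4
    intro p
    have := h p
    simpa [Finset.sum_apply] using this
  have h2 : ∑ k, c k • bT k ∈ Lp := Submodule.sum_mem _ fun k _ => Submodule.smul_mem _ _ (bT_mem k)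
  have h3 := Submodule.add_mem _ h1 h2
  simpa using h3

/-- Closure of the module under a linear map. -/
theorem closed_of {T : RuVec → RuVec} (hadd : ∀ x y, T (x + y) = T x + T y) (hsmul : ∀ (c : GaussianInt) x, T (c • x) = c • T x)
    (hb : ∀ j, T (bT j) ∈ Lp) (he : ∀ p q, D4 (T (e4 p) q)) {v : RuVec} (hv : v ∈ Lp) : T v ∈ Lp := by
  have h0 : T 0 = 0 := by
    have := hsmul 0 0
    simpa using this
  induction hv using Submodule.span_induction with
  | mem x hx =>
    rcases hx with ⟨j, rfl⟩ | ⟨p, rfl⟩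
    · exact hb j
    · exact mem_of_D4 (he p)
  | zero => rw [h0]; exact Submodule.zero_mem _
  | add x y _ _ hx hy => rw [hadd]; exact Submodule.add_mem _ hx hy
  | smul c x _ hx => rw [hsmul]; exact Submodule.smul_mem _ _ hx

theorem D4_of_four_mul {a : GaussianInt} (c : ℤ) (h : a = (c : GaussianInt) * 4) : D4 a := by
  subst h
  constructor <;> simp [Zsqrtd.re_mul, Zsqrtd.im_mul]

theorem e4_entry (p q : RuIdx) : e4 p q = 4 ∨ e4 p q = 0 := by
  unfold e4
  rw [Pi.single_apply]
  split_ifs
  · left; rfl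
  · right; rfl

theorem D44 : D4 (4 : GaussianInt) := ⟨by norm_num, by norm_num⟩

theorem D4_neg {a : GaussianInt} (h : D4 a) : D4 (-a) := by
  obtain ⟨h1, h2⟩ := h
  exact ⟨by simpa using h1, by simpa using h2⟩

theorem e4_D4 (p q : RuIdx) : D4 (e4 p q) := by
  rcases e4_entry p q with h | h <;> rw [h]
  · exact D44
  · exact D4.zero

theorem ruRj_add (x y : RuVec) : ruRj (x + y) = ruRj x + ruRj y := by
  funext p
  obtain ⟨n, t⟩ := p
  fin_cases t <;> simp [ruRj, mul_add, add_comm]

theorem ruRj_smul (c : GaussianInt) (x : RuVec) : ruRj (c • x) = c • ruRj x := by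
  funext p
  obtain ⟨n, t⟩ := p
  fin_cases t <;> simp [ruRj, mul_left_comm]

theorem ruRk_add (x y : RuVec) : ruRk (x + y) = ruRk x + ruRk y := by
  funext p
  obtain ⟨n, t⟩ := p
  fin_cases t <;> simp [ruRk, mul_add, add_comm]

theorem ruRk_smul (c : GaussianInt) (x : RuVec) : ruRk (c • x) = c • ruRk x := by
  funext p
  obtain ⟨n, t⟩ := p
  fin_cases t <;> simp [ruRk, mul_left_comm]

theorem ruSign_add (x y : RuVec) : ruSign (x + y) = ruSign x + ruSign y := by
  funext p
  simp only [ruSign, Pi.add_apply]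
  split_ifs <;> simp [add_comm]

theorem ruSign_smul (c : GaussianInt) (x : RuVec) : ruSign (c • x) = c • ruSign x := by
  funext p
  simp only [ruSign, Pi.smul_apply, smul_eq_mul]
  split_ifs <;> simp

theorem ruShift_add (x y : RuVec) : ruShift (x + y) = ruShift x + ruShift y := rfl

theorem ruShift_smul (c : GaussianInt) (x : RuVec) : ruShift (c • x) = c • ruShift x := rfl

theorem he_Rj (p q : RuIdx) : D4 (ruRj (e4 p) q) := by
  obtain ⟨n, t⟩ := q
  fin_cases t <;> simp only [ruRj] <;> first | exact D4.mul_left _ (e4_D4 _ _) | exact e4_D4 _ _ | exact D4_neg (e4_D4 _ _)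

theorem he_Rk (p q : RuIdx) : D4 (ruRk (e4 p) q) := by
  obtain ⟨n, t⟩ := q
  fin_cases t <;> simp only [ruRk] <;> first | exact D4.mul_left _ (e4_D4 _ _) | exact e4_D4 _ _ | exact D4_neg (e4_D4 _ _)

theorem he_Sign (p q : RuIdx) : D4 (ruSign (e4 p) q) := by
  simp only [ruSign]
  split_ifs
  · exact D4_neg (e4_D4 _ _)
  · exact e4_D4 _ _

theorem he_Shift (p q : RuIdx) : D4 (ruShift (e4 p) q) := e4_D4 _ _

/-- The lattice lies in the module. -/
theorem lattice_le {x : RuVec} (hx : x ∈ ruLattice) : x ∈ Lp := by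
  have hmem : Lp.toAddSubgroup ∈ ruClosed := by
    refine ⟨?_, ?_⟩
    · intro v hv
      obtain ⟨i, rfl⟩ := List.mem_iff_get.1 hv
      have := chk_tab (Fin.cast chk_len i)
      exact mem_of_cert (cTab (Fin.cast chk_len i)) this
    · intro v hv
      have hv' : v ∈ Lp := hv
      refine ⟨Submodule.smul_mem _ _ hv', ?_, ?_, ?_, ?_⟩
      · exact closed_of ruRj_add ruRj_smul (fun j => mem_of_cert (cRj j) (chk_rj j)) he_Rj hv'
      · exact closed_of ruRk_add ruRk_smul (fun j => mem_of_cert (cRk j) (chk_rk j)) he_Rk hv'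
      · exact closed_of ruSign_add ruSign_smul (fun j => mem_of_cert (cSign j) (chk_sign j)) he_Sign hv'
      · exact closed_of ruShift_add ruShift_smul (fun j => mem_of_cert (cShift j) (chk_shift j)) he_Shift hv'
  exact (AddSubgroup.mem_sInf.1 hx) _ hmem

/-- Orthogonality to the generators passes to the module. -/
theorem pair_of {w : RuVec} (hw : ∀ j, D4 (herm (bT j) w)) {x : RuVec} (hx : x ∈ Lp) : D4 (herm x w) := by
  induction hx using Submodule.span_induction with
  | mem x hx =>
    rcases hx with ⟨j, rfl⟩ | ⟨p, rfl⟩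
    · exact hw j
    · unfold herm
      apply D4.sum
      intro q _
      obtain h | h := e4_entry p q
      · rw [h]
        have : (4 : GaussianInt) * star (w q) = star (w q) * 4 := mul_comm _ _
        rw [this]
        exact D4.mul_left _ D44
      · rw [h, zero_mul]
        exact D4.zero
  | zero =>
    unfold herm
    simpa using D4.zero
  | add x y _ _ hx hy => rw [herm_add_left]; exact hx.add hy
  | smul c x _ hx => rw [herm_smul_left]; exact D4.mul_left _ hx

/-- The module is self-orthogonal at scale 4. -/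
theorem pair_mem {x y : RuVec} (hx : x ∈ Lp) (hy : y ∈ Lp) : D4 (herm x y) := by
  refine pair_of ?_ hx
  intro j
  have hs : ∀ a b : RuVec, herm a b = star (herm b a) := by
    intro a b
    unfold herm
    rw [star_sum]
    refine Finset.sum_congr rfl fun p _ => ?_
    rw [star_mul', star_star, mul_comm]
  have hstar : ∀ a : GaussianInt, D4 a → D4 (star a) := by
    rintro a ⟨h1, h2⟩
    refine ⟨by simpa [Zsqrtd.re_star] using h1, by simpa [Zsqrtd.im_star] using h2⟩
  rw [hs]
  apply hstar
  exact pair_of (fun k => chk_gram k j) hy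

/-- Norms in the module are divisible by 8. -/
theorem eight_dvd {x : RuVec} (hx : x ∈ Lp) : (8 : ℤ) ∣ ruNorm x := by
  induction hx using Submodule.span_induction with
  | mem x hx =>
    rcases hx with ⟨j, rfl⟩ | ⟨p, rfl⟩
    · exact chk_norm j
    · unfold ruNorm e4
      rw [Finset.sum_eq_single p]
      · simp only [Pi.single_eq_same]
        exact ⟨2, by rfl⟩
      · intro b _ hb
        simp [Pi.single_apply, hb]
      · simp
  | zero =>
    unfold ruNorm
    simp
  | add x y hx' hy' hx hy =>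
    rw [ruNorm_add]
    obtain ⟨⟨r, hr⟩, -⟩ := pair_mem hx' hy'
    rw [hr]
    obtain ⟨a, ha⟩ := hx
    obtain ⟨b, hb⟩ := hy
    exact ⟨a + b + r, by rw [ha, hb]; ring⟩
  | smul c x _ hx =>
    rw [ruNorm_smul]
    exact Dvd.dvd.mul_left hx _

/-! ### Weights -/

/-- The reduction of a vector. -/
def rv (x : RuVec) : W := fun p => ρ (x p)

theorem ruNorm_nn (x : RuVec) (A : Finset RuIdx) : 0 ≤ ∑ p ∈ A, (x p).norm :=
  Finset.sum_nonneg fun p _ => norm_nn _

theorem rv_ne {x : RuVec} {p : RuIdx} (h : rv x p ≠ 0) : x p ≠ 0 := by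
  intro h0
  apply h
  show ρ (x p) = 0
  rw [h0, ρ_zero]

/-- The weight is at most the norm. -/
theorem wt_le (x : RuVec) : (wt (rv x) : ℤ) ≤ ruNorm x := by
  unfold wt ruNorm
  have h1 : ((Finset.univ.filter fun p => rv x p ≠ 0).card : ℤ) = ∑ p ∈ Finset.univ.filter (fun p => rv x p ≠ 0), (1 : ℤ) := by
    simp
  rw [h1]
  calc ∑ p ∈ Finset.univ.filter (fun p => rv x p ≠ 0), (1 : ℤ)
      ≤ ∑ p ∈ Finset.univ.filter (fun p => rv x p ≠ 0), (x p).norm :=
        Finset.sum_le_sum fun p hp => one_le_norm (rv_ne (Finset.mem_filter.1 hp).2)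
    _ ≤ ∑ p, (x p).norm :=
        Finset.sum_le_sum_of_subset_of_nonneg (Finset.filter_subset _ _) fun p _ _ => norm_nn _

/-- If the weight equals the norm, the vector is supported on the support of the reduction, with entries of norm 1. -/
theorem tight {x : RuVec} (h : (wt (rv x) : ℤ) = ruNorm x) (p : RuIdx) :
    (rv x p = 0 → x p = 0) ∧ (rv x p ≠ 0 → (x p).norm = 1) := by
  classical
  set A := Finset.univ.filter (fun p => rv x p ≠ 0) with hA
  have h1 : ruNorm x = ∑ p ∈ A, (x p).norm + ∑ p ∈ Aᶜ, (x p).norm := by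
    unfold ruNorm
    rw [Finset.sum_add_sum_compl]
  have h2 : (wt (rv x) : ℤ) = ∑ p ∈ A, (1 : ℤ) := by
    unfold wt
    simp [hA]
  have h3 : ∑ p ∈ A, ((x p).norm - 1) + ∑ p ∈ Aᶜ, (x p).norm = 0 := by
    rw [Finset.sum_sub_distrib]
    rw [h2, h1] at h
    linarith
  have h4 : ∀ p ∈ A, 0 ≤ (x p).norm - 1 := fun p hp => by
    have := one_le_norm (rv_ne (Finset.mem_filter.1 hp).2)
    omega
  have h5 : ∀ p ∈ Aᶜ, 0 ≤ (x p).norm := fun p _ => norm_nn _
  have h6 := (add_eq_zero_iff_of_nonneg (Finset.sum_nonneg h4) (Finset.sum_nonneg h5)).1 h3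
  have h7 := (Finset.sum_eq_zero_iff_of_nonneg h4).1 h6.1
  have h8 := (Finset.sum_eq_zero_iff_of_nonneg h5).1 h6.2
  constructor
  · intro hp
    have hp2 : p ∈ Aᶜ := by
      rw [Finset.mem_compl, hA, Finset.mem_filter]
      exact fun h => h.2 hp
    have := h8 p hp2
    exact (Zsqrtd.norm_eq_zero (d := -1) (by intro x; nlinarith [mul_self_nonneg x]) _).1 this
  · intro hp
    have hp2 : p ∈ A := by
      rw [hA, Finset.mem_filter]
      exact ⟨Finset.mem_univ _, hp⟩
    have := h7 p hp2
    omega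

/-- A vector with vanishing reduction is divisible by `1 + i`. -/
theorem exists_div_vec {x : RuVec} (h : rv x = 0) : ∃ y : RuVec, x = onei • y ∧ ruNorm x = 2 * ruNorm y := by
  choose y hy using fun p => exists_div (a := x p) (congrFun h p)
  have hx : x = onei • y := by
    funext p
    exact hy p
  refine ⟨y, hx, ?_⟩
  rw [hx, ruNorm_smul]
  rfl

/-- The parity relation. -/
theorem parity {z u : RuVec} {a b : GaussianInt} (hc : ∀ t, D4 (a * star b * t) → ρ t = 0) (hz : a • z ∈ Lp)
    (hu : ∀ j, D4 (herm (bT j) (b • u))) : ∑ p, rv z p * ρ (u p) = 0 := by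
  have h1 := pair_of hu hz
  rw [herm_smul_left, herm_smul_right, ← mul_assoc] at h1
  have h2 := hc _ h1
  unfold herm at h2
  rw [ρ_sum] at h2
  rw [← h2]
  refine Finset.sum_congr rfl fun p _ => ?_
  rw [ρ_mul, ρ_star]
  rfl

/-- Decoding from the reduced parity checks. -/
theorem decode {k : ℕ} (g : Fin k → W) (I : Fin k → RuIdx) (u : Fin 28 → RuVec) (w : W)
    (hrow : ∀ q, ∑ p, w p * ρ (u q p) = 0)
    (hdec : ∀ q p, ρ (u (pIdx q) p) = (if p = q then 1 else 0) + ∑ j, g j q * (if p = I j then 1 else 0)) :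
    w = ∑ j, w (I j) • g j := by
  funext q
  have h1 := hrow (pIdx q)
  have h2a : ∑ p, w p * (if p = q then (1 : ZMod 2) else 0) = w q := by
    rw [Finset.sum_eq_single q (fun b _ hb => by rw [if_neg hb, mul_zero]) (fun h => absurd (Finset.mem_univ q) h),
      if_pos rfl, mul_one]
  have h2b : ∑ p, ∑ j, w p * (g j q * (if p = I j then (1 : ZMod 2) else 0)) = ∑ j, g j q * w (I j) := by
    rw [Finset.sum_comm]
    refine Finset.sum_congr rfl fun j _ => ?_
    rw [Finset.sum_eq_single (I j) (fun b _ hb => by rw [if_neg hb, mul_zero, mul_zero])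
      (fun h => absurd (Finset.mem_univ _) h), if_pos rfl, mul_one, mul_comm]
  have h2 : ∑ p, w p * ρ (u (pIdx q) p) = w q + ∑ j, g j q * w (I j) := by
    rw [← h2a, ← h2b, ← Finset.sum_add_distrib]
    refine Finset.sum_congr rfl fun p _ => ?_
    rw [hdec q p, mul_add, Finset.mul_sum]
  rw [h1] at h2
  have h3 : w q = ∑ j, g j q * w (I j) := by
    have h4 := h2.symm
    have h5 : w q + ∑ j, g j q * w (I j) + ∑ j, g j q * w (I j) = ∑ j, g j q * w (I j) := by rw [h4, zero_add]
    rw [add_assoc, CharTwo.add_self_eq_zero, add_zero] at h5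
    exact h5
  rw [h3, Finset.sum_apply]
  refine Finset.sum_congr rfl fun j _ => ?_
  simp only [Pi.smul_apply, smul_eq_mul]
  ring

/-- A word annihilated by checks with nonzero columns and weight at most 1 vanishes. -/
theorem wt_one {ι' : Type*} (u : ι' → RuIdx → ZMod 2) (w : W) (h : ∀ r, ∑ p, w p * u r p = 0)
    (h1 : ∀ p, ∃ r, u r p ≠ 0) (hw : wt w ≤ 1) : w = 0 := by
  by_contra hne
  obtain ⟨p, hp⟩ : ∃ p, w p ≠ 0 := by
    by_contra hall
    push Not at hall
    exact hne (funext hall)
  have hA : Finset.univ.filter (fun p => w p ≠ 0) = {p} := by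
    have hc : (Finset.univ.filter (fun p => w p ≠ 0)).card ≤ 1 := hw
    rw [Finset.card_le_one_iff_subset_singleton] at hc
    obtain ⟨a, ha⟩ := hc
    have hpa : p ∈ ({a} : Finset RuIdx) := ha (Finset.mem_filter.2 ⟨Finset.mem_univ _, hp⟩)
    rw [Finset.mem_singleton] at hpa
    subst hpa
    apply Finset.Subset.antisymm ha
    intro q hq
    rw [Finset.mem_singleton] at hq
    subst hq
    exact Finset.mem_filter.2 ⟨Finset.mem_univ _, hp⟩
  have hv : ∀ q, q ≠ p → w q = 0 := by
    intro q hq
    by_contra h0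
    have : q ∈ Finset.univ.filter (fun p => w p ≠ 0) := Finset.mem_filter.2 ⟨Finset.mem_univ _, h0⟩
    rw [hA, Finset.mem_singleton] at this
    exact hq this
  have hwp : w p = 1 := by
    generalize w p = a at hp
    revert a
    decide
  obtain ⟨r, hr⟩ := h1 p
  have h3 := h r
  rw [Finset.sum_eq_single p (fun q _ hq => by rw [hv q hq, zero_mul]) (by simp), hwp, one_mul] at h3
  exact hr h3

/-- A word annihilated by checks with nonzero distinct columns and weight at most 2 vanishes. -/
theorem wt_two {ι' : Type*} (u : ι' → RuIdx → ZMod 2) (w : W) (h : ∀ r, ∑ p, w p * u r p = 0)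
    (h1 : ∀ p, ∃ r, u r p ≠ 0) (h2 : ∀ p q, p ≠ q → ∃ r, u r p ≠ u r q) (hw : wt w ≤ 2) : w = 0 := by
  by_cases hw1 : wt w ≤ 1
  · exact wt_one u w h h1 hw1
  have hw2 : (Finset.univ.filter (fun p => w p ≠ 0)).card = 2 := by
    have : wt w = 2 := by omega
    exact this
  obtain ⟨p, q, hpq, hA⟩ := Finset.card_eq_two.1 hw2
  have hv : ∀ a, a ≠ p → a ≠ q → w a = 0 := by
    intro a ha hb
    by_contra h0
    have : a ∈ Finset.univ.filter (fun p => w p ≠ 0) := Finset.mem_filter.2 ⟨Finset.mem_univ _, h0⟩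
    rw [hA] at this
    simp only [Finset.mem_insert, Finset.mem_singleton] at this
    tauto
  have hval : ∀ a ∈ ({p, q} : Finset RuIdx), w a = 1 := by
    intro a ha
    have : a ∈ Finset.univ.filter (fun p => w p ≠ 0) := by rw [hA]; exact ha
    have h0 := (Finset.mem_filter.1 this).2
    generalize w a = b at h0
    revert b
    decide
  obtain ⟨r, hr⟩ := h2 p q hpq
  have h3 := h r
  rw [Finset.sum_eq_add p q hpq (fun a _ ha => by rw [hv a ha.1 ha.2, zero_mul]) (by simp) (by simp),
    hval p (by simp), hval q (by simp), one_mul, one_mul] at h3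
  exfalso
  apply hr
  have h4 : u r p + u r q + u r q = u r q := by rw [h3, zero_add]
  rwa [add_assoc, CharTwo.add_self_eq_zero, add_zero] at h4

/-- A test vector excludes a vector of small support. -/
theorem kill {x T : RuVec} (hx : x ∈ Lp) (hT : ∀ j, D4 (herm (bT j) T)) (p0 : RuIdx)
    (h0 : ∀ p, p ≠ p0 → x p * star (T p) = 0) (hx0 : x p0 ≠ 0) (hT0 : T p0 ≠ 0)
    (hlt : (x p0).norm * (T p0).norm < 16) : False := by
  have h1 := pair_of hT hx
  have h2 : herm x T = x p0 * star (T p0) := by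
    unfold herm
    rw [Finset.sum_eq_single p0 (fun p _ hp => h0 p hp) (by simp)]
  rw [h2] at h1
  have hne : x p0 * star (T p0) ≠ 0 := by
    apply mul_ne_zero hx0
    intro h
    apply hT0
    exact star_eq_zero.1 h
  have h3 := not_D4 h1 hne
  rw [Zsqrtd.norm_mul] at h3
  have h4 : (star (T p0)).norm = (T p0).norm := by
    simp [Zsqrtd.norm_def]
  rw [h4] at h3
  omega

/-! ### The four layers -/

theorem hc0 : ∀ t : GaussianInt, D4 (1 * star c3 * t) → ρ t = 0 := by
  intro t ht
  have h := ht.1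
  rw [Zsqrtd.re_mul] at h
  have h2 : (1 * star c3).re = -2 := by decide
  have h3 : (1 * star c3).im = -2 := by decide
  rw [h2, h3] at h
  refine (ZMod.intCast_zmod_eq_zero_iff_dvd _ 2).2 ?_
  push_cast
  omega

theorem hc1 : ∀ t : GaussianInt, D4 (onei * star c2 * t) → ρ t = 0 := by
  intro t ht
  have h := ht.1
  rw [Zsqrtd.re_mul] at h
  have h2 : (onei * star c2).re = 2 := by decide
  have h3 : (onei * star c2).im = -2 := by decide
  rw [h2, h3] at h
  refine (ZMod.intCast_zmod_eq_zero_iff_dvd _ 2).2 ?_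
  push_cast
  omega

theorem hc2 : ∀ t : GaussianInt, D4 (c2 * star onei * t) → ρ t = 0 := by
  intro t ht
  have h := ht.1
  rw [Zsqrtd.re_mul] at h
  have h2 : (c2 * star onei).re = 2 := by decide
  have h3 : (c2 * star onei).im = 2 := by decide
  rw [h2, h3] at h
  refine (ZMod.intCast_zmod_eq_zero_iff_dvd _ 2).2 ?_
  push_cast
  omega

theorem hc3 : ∀ t : GaussianInt, D4 (c3 * star 1 * t) → ρ t = 0 := by
  intro t ht
  have h := ht.1
  rw [Zsqrtd.re_mul] at h
  have h2 : (c3 * star 1).re = -2 := by decide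
  have h3 : (c3 * star 1).im = 2 := by decide
  rw [h2, h3] at h
  refine (ZMod.intCast_zmod_eq_zero_iff_dvd _ 2).2 ?_
  push_cast
  omega

/-- No vector of norm 8. -/
theorem no_eight {x : RuVec} (hx : x ∈ Lp) : ruNorm x ≠ 8 := by
  intro hN
  -- layer 0
  have hw0 := decode g0 I0 uu0 (rv x) (fun q => parity (a := 1) (b := c3) hc0 (by simpa using hx) (chk_u0 q)) chk_dec0
  have hle0 := wt_le x
  rw [hN] at hle0
  have h0 : rv x = 0 := by
    rcases chk_F0 (fun j => rv x (I0 j)) with h | ⟨i, h⟩ | h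
    · rw [hw0]; exact h
    · exfalso
      rw [← hw0] at h
      have hw8 : wt (rv x) = 8 := by rw [h]; exact (chk_T3 i).2.2
      have ht := tight (x := x) (by rw [hw8, hN]; rfl)
      refine kill hx (chk_T i) (P0 i) ?_ ?_ ?_ ?_
      · intro p hp
        by_cases hrv : rv x p = 0
        · rw [(ht p).1 hrv, zero_mul]
        · have : pw i p ≠ 0 := by rw [← h]; exact hrv
          rw [chk_T2 i p hp this]
          simp
      · apply rv_ne
        rw [h]
        exact (chk_T3 i).2.1
      · intro h2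
        have := (chk_T3 i).1
        rw [h2] at this
        simp at this
      · have hP : rv x (P0 i) ≠ 0 := by
          rw [h]
          exact (chk_T3 i).2.1
        rw [(ht _).2 hP, (chk_T3 i).1]
        norm_num
    · exfalso
      rw [← hw0] at h
      omega
  obtain ⟨y, rfl, hNy⟩ := exists_div_vec h0
  have hNy' : ruNorm y = 4 := by omega
  -- layer 1
  have hw1 := decode g1 I1 uu1 (rv y) (fun q => parity (a := onei) (b := c2) hc1 hx (chk_u1 q)) chk_dec1
  have hle1 := wt_le y
  rw [hNy'] at hle1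
  have h1 : rv y = 0 := by
    rcases chk_F1 (fun j => rv y (I1 j)) with h | ⟨i, h⟩ | h
    · rw [hw1]; exact h
    · exfalso
      rw [← hw1] at h
      have hw4 : wt (rv y) = 4 := by rw [h]; exact (chk_W3 i).2.2
      have ht := tight (x := y) (by rw [hw4, hNy']; rfl)
      refine kill hx (chk_W i) (i, 0) ?_ ?_ ?_ ?_
      · intro p hp
        by_cases hrv : rv y p = 0
        · have : (onei • y) p = onei * y p := rfl
          rw [this, (ht p).1 hrv, mul_zero, zero_mul]
        · have : cw i p ≠ 0 := by rw [← h]; exact hrv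
          rw [chk_W2 i p hp this]
          simp
      · have : (onei • y) (i, 0) = onei * y (i, 0) := rfl
        rw [this]
        apply mul_ne_zero (by decide)
        apply rv_ne
        rw [h]
        exact (chk_W3 i).2.1
      · intro h2
        have := (chk_W3 i).1
        rw [h2] at this
        simp at this
      · have hP : rv y (i, 0) ≠ 0 := by
          rw [h]
          exact (chk_W3 i).2.1
        have : (onei • y) (i, 0) = onei * y (i, 0) := rfl
        rw [this, norm_onei_mul, (ht _).2 hP, (chk_W3 i).1]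
        norm_num
    · exfalso
      rw [← hw1] at h
      omega
  obtain ⟨z, rfl, hNz⟩ := exists_div_vec h1
  have hNz' : ruNorm z = 2 := by omega
  -- layer 2
  have hxz : c2 • z ∈ Lp := by
    have : c2 • z = onei • onei • z := by
      rw [smul_smul]
      rfl
    rw [this]
    exact hx
  have hle2 := wt_le z
  rw [hNz'] at hle2
  have h2 : rv z = 0 := wt_two (fun r p => ρ (u2 r p)) (rv z)
    (fun r => parity (a := c2) (b := onei) hc2 hxz (chk_u2 r)) chk_col2a chk_col2b (by omega)
  obtain ⟨t, rfl, hNt⟩ := exists_div_vec h2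
  have hNt' : ruNorm t = 1 := by omega
  -- layer 3
  have hxt : c3 • t ∈ Lp := by
    have : c3 • t = onei • onei • onei • t := by
      rw [smul_smul, smul_smul]
      rfl
    rw [this]
    exact hx
  have hle3 := wt_le t
  rw [hNt'] at hle3
  have h3 : rv t = 0 := wt_one (fun r p => ρ (u3 r p)) (rv t)
    (fun r => parity (a := c3) (b := 1) hc3 hxt (by simpa using chk_u3 r)) chk_col3 (by omega)
  obtain ⟨s, -, hNs⟩ := exists_div_vec h3
  omega

theorem sixteen_le {x : RuVec} (hx : x ∈ Lp) (h0 : x ≠ 0) : 16 ≤ ruNorm x := by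
  obtain ⟨p, hp⟩ : ∃ p, x p ≠ 0 := by
    by_contra hall
    push Not at hall
    exact h0 (funext hall)
  have h1 : 1 ≤ ruNorm x := by
    have h2 := one_le_norm hp
    have h3 : (x p).norm ≤ ruNorm x :=
      Finset.single_le_sum (f := fun p => (x p).norm) (fun q _ => norm_nn _) (Finset.mem_univ p)
    omega
  obtain ⟨k, hk⟩ := eight_dvd hx
  have h4 := no_eight hx
  omega

theorem chk_wit : ruNorm (ruTable.get (Fin.cast chk_len.symm 0)) = 16 := by decide +kernel

theorem witness : ∃ x ∈ ruLattice, ruNorm x = 16 := by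
  refine ⟨ruTable.get (Fin.cast chk_len.symm 0), ?_, chk_wit⟩
  exact AddSubgroup.mem_sInf.2 fun L hL => hL.1 _ (List.get_mem _ _)

/-- **The minimum of the lattice.** -/
theorem main : (∀ x ∈ ruLattice, (8 : ℤ) ∣ ruNorm x) ∧ (∀ x ∈ ruLattice, ruNorm x ≠ 8) ∧
    (∀ x ∈ ruLattice, x ≠ 0 → 16 ≤ ruNorm x) ∧ ∃ x ∈ ruLattice, ruNorm x = 16 :=
  ⟨fun _ hx => eight_dvd (lattice_le hx), fun _ hx => no_eight (lattice_le hx),
    fun _ hx h0 => sixteen_le (lattice_le hx) h0, witness⟩

end Cfsg.Agent.Lib.RuMin
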